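import Cfsg.Agent.INV.W4.Alpha
import Cfsg.Agent.SIG.FStarLocal
import Cfsg.Agent.S3035
import Cfsg.Agent.TECH.PRed

/-! A group containing `S₄ ≀ C₂` with odd index, with no subgroup of index 2 and with `C(z)` of
characteristic 2, has a 2-local subgroup of 3-rank 3. -/

set_option autoImplicit false

namespace CL.W4
open Subgroup Cfsg CL.MSS CL.Comp

variable {G : Type*} [Group G] {ψ : M →* G}

theorem cj_pow {g : G} {x : W} (h : Cj ψ g x x) (n : ℕ) : Cj ψ (g ^ n) x x := by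
  induction n with
  | zero => simp [Cj]
  | succ n ih => rw [pow_succ]; exact h.trans ih

theorem fix_Z0 {g : G} (h1 : Cj ψ g z1 z1) (h2 : Cj ψ g a1 a1) (h3 : Cj ψ g z2 z2) :
    ∀ c ∈ Z0, Cj ψ g c c := fun c hc =>
  (((h1.pw _).mul (h2.pw _)).mul (h3.pw _)).of_eq (decZ0 c hc).symm (decZ0 c hc).symm

theorem cj_rho {g : G} (h1 : Cj ψ g z1 z1) (h2 : Cj ψ g a1 a1) (h3 : Cj ψ g z2 b2)
    (h4 : Cj ψ g b2 (b2 * z2)) : ∀ c ∈ E, Cj ψ g c (rho c) := fun c hc =>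
  ((((h1.pw _).mul (h2.pw _)).mul (h3.pw _)).mul (h4.pw _)).of_eq (decE c hc).symm rfl

theorem mem_cent_im {g : G} {X : Subgroup W} :
    g ∈ centralizer (im ψ X : Set G) ↔ ∀ c ∈ X, Cj ψ g c c := by
  rw [mem_centralizer_iff]
  constructor
  · intro h c hc
    exact cj_self_iff.2 (h _ ⟨c, hc, rfl⟩).symm
  · rintro h _ ⟨c, hc, rfl⟩
    exact (cj_self_iff.1 (h c hc)).symm

theorem Y1_three : ψ Y1 ^ 3 = 1 := by rw [← map_pow, show Y1 ^ 3 = 1 by decide, map_one]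

/-- The second factor `S₄`. -/
def kap (ψ : M →* G) : S4 →* G := ψ.comp Wr.inr

theorem kap_comm (π : S4) {m : M} (hm : m.r = 1) (hs : m.s = false) :
    kap ψ π * ψ m = ψ m * kap ψ π := by
  obtain ⟨l, r, s⟩ := m
  obtain rfl : r = 1 := hm
  obtain rfl : s = false := hs
  change ψ ⟨1, π, false⟩ * ψ _ = ψ _ * ψ ⟨1, π, false⟩
  rw [← map_mul, ← map_mul, Wr.mul_f, Wr.mul_f]; simp

theorem io_R2 {w : W} (hw : w ∈ R2) : io ψ w = kap ψ (δ w.r) := by
  obtain ⟨l, r, s⟩ := w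
  obtain ⟨rfl, rfl, -⟩ := hw
  change ψ ⟨δ 1, δ r, false⟩ = ψ ⟨1, δ r, false⟩
  rw [map_one]

/-- `L = C(A₁⟨y₁⟩)`. -/
def LL (ψ : M →* G) : Subgroup G := centralizer {io ψ z1, io ψ a1, ψ Y1}

theorem mem_LL {g : G} : g ∈ LL ψ ↔ Cj ψ g z1 z1 ∧ Cj ψ g a1 a1 ∧ g * ψ Y1 = ψ Y1 * g := by
  simp only [LL, mem_centralizer_iff, Set.mem_insert_iff, Set.mem_singleton_iff, forall_eq_or_imp,
    forall_eq, cj_self_iff, eq_comm]

theorem kap_mem (π : S4) : kap ψ π ∈ LL ψ :=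
  mem_LL.2 ⟨cj_self_iff.2 (kap_comm π (m := emb z1) (by decide) rfl),
    cj_self_iff.2 (kap_comm π (m := emb a1) (by decide) rfl), kap_comm π rfl rfl⟩

theorem io_mem_LL {w : W} (hw : w ∈ R2) : io ψ w ∈ LL ψ := io_R2 (ψ := ψ) hw ▸ kap_mem _

namespace Cfg
variable (h : Cfg ψ) [Finite G]
include h

theorem sylP1 : SylIn 2 (im ψ P1) (centralizer (im ψ Z0 : Set G)) := by
  have hle : im ψ P1 ≤ centralizer (im ψ Z0 : Set G) := by
    rintro _ ⟨w, hw, rfl⟩
    exact mem_cent_im.2 fun c hc => cj_io (by rw [f_P1c w hw c hc, mul_inv_cancel_right])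
  refine ⟨hle, isPGroup_im _, fun Q hQ hPQ hQC => le_antisymm ?_ hPQ⟩
  have hC : centralizer (im ψ Z0 : Set G) ≤ centralizer {io ψ z1} := fun g hg =>
    mem_centralizer_singleton_iff.2 (cj_self_iff.1 (mem_cent_im.1 hg z1 (by decide)))
  obtain ⟨c, -, hc⟩ := h.sylJ.exists_conj_le hQ (hQC.trans hC)
  by_contra hne
  have hlt : im ψ P1 < Q := lt_of_le_of_ne hPQ fun e => hne e.ge
  have hcard : ∀ X : Subgroup W, Nat.card (im ψ X) = Nat.card X := fun X =>
    (Nat.card_congr (X.equivMapOfInjective _ h.io_inj).toEquiv).symm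
  have c1 : Nat.card P1 = 32 := by
    rw [Nat.card_eq_fintype_card, Fintype.card_subtype]; decide +kernel
  have c2 : Nat.card J = 64 := by
    rw [Nat.card_eq_fintype_card, Fintype.card_subtype]; decide +kernel
  have heq : c •ᶜ Q = im ψ J := by
    refine eq_of_le_of_card_ge hc ?_
    rw [card_cj, hcard, c2]
    have h1 := card_dvd_of_le hPQ
    have h2 : Nat.card (im ψ P1) ≠ Nat.card Q := fun e => hlt.ne (eq_of_le_of_card_ge hPQ e.ge)
    rw [hcard, c1] at h1 h2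
    obtain ⟨k, hk⟩ := h1
    have : 0 < Nat.card Q := Nat.card_pos
    rcases k with _ | _ | k <;> omega
  have key : ∀ u ∈ Z0, ∃ u' ∈ Z, Cj ψ c u u' := by
    intro u hu
    have hP : u ∈ P1 := ⟨hu.1, hu.2.1, trivial⟩
    obtain ⟨u', -, e⟩ := hc (conj_mem_cj (hPQ ⟨u, hP, rfl⟩))
    have hcu : ∀ y ∈ J, u' * y = y * u' := fun y hy => by
      have : io ψ y ∈ c •ᶜ Q := heq ▸ ⟨y, hy, rfl⟩
      obtain ⟨q, hq, e'⟩ := mem_cj'.1 this
      apply h.io_inj
      have hq' := cj_self_iff.1 (mem_cent_im.1 (hQC hq) u hu)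
      rw [map_mul, map_mul, e, ← e']
      calc c * io ψ u * c⁻¹ * (c * q * c⁻¹) = c * (io ψ u * q) * c⁻¹ := by group
        _ = _ := by rw [← hq']; group
    exact ⟨u', f_cJ u' (hcu _ (by decide)) (hcu _ (by decide)) (hcu _ (by decide))
      (hcu _ (by decide)), Eq.symm e⟩
  obtain ⟨x, hx, e1⟩ := key z1 (by decide)
  obtain ⟨y, hy, e2⟩ := key a1 (by decide)
  obtain ⟨w, hw, e3⟩ := key z2 (by decide)
  rcases f_ZZZ x hx y hy w hw with e | e | e | e | e | e | e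
  · exact h.tr_ne e1 (Cj.one c) (by decide) e
  · exact h.tr_ne e2 (Cj.one c) (by decide) e
  · exact h.tr_ne e3 (Cj.one c) (by decide) e
  · exact h.tr_ne e1 e2 (by decide) e
  · exact h.tr_ne e1 e3 (by decide) e
  · exact h.tr_ne e2 e3 (by decide) e
  · exact h.tr_ne (e1.mul e2) e3 (by decide) e

variable (hch : IsPGroup 2 (fstarOf (centralizer {io ψ zz})))
include hch

theorem cent_Z0 : centralizer (im ψ Z0 : Set G) ≤ im ψ P1 := by
  set C := centralizer (im ψ Z0 : Set G) with hC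
  have hQ : IsPGroup 2 (fstarOf C) := by
    refine isPGroup_fstarOf_centralizer_mono (V := zpowers (io ψ zz)) ?_ (isPGroup_im Z0) ?_
    · exact zpowers_le_of_mem ⟨zz, (by decide : zz ∈ Z0), rfl⟩
    · rwa [zpowers_eq_closure, centralizer_closure]
  have hQP : fstarOf C ≤ im ψ P1 := h.sylP1.le_of_normalized hQ (fstarOf_le C)
    (h.sylP1.le.trans (le_normalizer_fstarOf C))
  have hp : IsPGroup 2 C := by
    intro ⟨g, hg⟩
    have hZ := mem_cent_im.1 hg
    have hn := le_normalizer_fstarOf C hg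
    have step : ∀ w ∈ P1, io ψ w ∈ fstarOf C → ∃ w' ∈ P1, io ψ w' ∈ fstarOf C ∧ Cj ψ g w w' ∧
        (w ∈ Z0 ↔ w' ∈ Z0) := fun w _ hw => by
      have h1 := (mem_normalizer_iff.1 hn _).1 hw
      obtain ⟨w', hw', e⟩ := hQP h1
      have e' : Cj ψ g w w' := Eq.symm e
      exact ⟨w', hw', e ▸ h1, e', fun h2 => h.tr (hZ w h2) e' rfl ▸ h2,
        fun h2 => (h.eq_iff e' (hZ w' h2)).2 rfl ▸ h2⟩
    have h4 : g ^ 4 ∈ fstarOf C := by
      refine inf_centralizer_fstarOf_le C ⟨C.pow_mem hg 4, fun q hq => ?_⟩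
      obtain ⟨w, hw, rfl⟩ := hQP hq
      obtain ⟨w', hw', m', e', i'⟩ := step w hw hq
      obtain ⟨w'', hw'', -, e'', i''⟩ := step w' hw' m'
      have hc := f_P1 w hw w' hw' i' (h.sq_iff e') w'' hw'' i'' (h.sq_iff e'')
        (h.comm_iff e' e'')
      have e2 : Cj ψ (g * g) w (w * (w⁻¹ * w'')) := (e'.trans e'').of_eq rfl (by group)
      have e3 := e2.trans (e2.mul ((hZ _ hc).trans (hZ _ hc)))
      rw [mul_assoc w, Z0_sq _ hc, mul_one] at e3
      rw [show g ^ 4 = g * g * (g * g) by rw [pow_succ, pow_succ, pow_two]; group]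
      exact (cj_self_iff.1 e3).symm
    obtain ⟨k, hk⟩ := hQ ⟨_, h4⟩
    refine ⟨2 + k, Subtype.ext ?_⟩
    have := congrArg Subtype.val hk
    simp only [SubmonoidClass.coe_pow, OneMemClass.coe_one] at this ⊢
    rw [pow_add, pow_mul]
    exact this
  exact (h.sylP1.eq_of_isPGroup hp).ge

theorem cent_E {g : G} (h1 : Cj ψ g z1 z1) (h2 : Cj ψ g a1 a1) (h3 : Cj ψ g z2 z2)
    (h4 : Cj ψ g b2 b2) : ∃ e ∈ E, io ψ e = g := by
  obtain ⟨w, hw, rfl⟩ := h.cent_Z0 hch (mem_cent_im.2 (fix_Z0 h1 h2 h3))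
  refine ⟨w, f_cE w hw (h.io_inj ?_), rfl⟩
  rw [map_mul, map_mul]
  exact cj_self_iff.1 h4

theorem exists_x : ∃ x : G, x ^ 3 = 1 ∧ Cj ψ x z1 z1 ∧ Cj ψ x a1 a1 ∧ Cj ψ x z2 b2 ∧
    Cj ψ x b2 (b2 * z2) := by
  obtain ⟨-, -, x, e1, e2, e3, e4⟩ := h.alpha
  have hr := cj_rho e1 e2 e3 e4
  have h3 : ∀ c ∈ E, Cj ψ (x ^ 3) c c := fun c hc => by
    have := ((hr c hc).trans (hr _ (rho_mem c hc))).trans (hr _ (rho_mem _ (rho_mem c hc)))
    rw [rho_three c hc] at this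
    rwa [show x ^ 3 = x * (x * x) by rw [pow_succ', pow_two]]
  obtain ⟨e, he, hx⟩ := h.cent_E hch (h3 _ (by decide)) (h3 _ (by decide)) (h3 _ (by decide))
    (h3 _ (by decide))
  refine ⟨x ^ 3 * x, ?_, e1.trans (h3 _ (by decide)), e2.trans (h3 _ (by decide)),
    e3.trans (h3 _ (by decide)), e4.trans (h3 _ (by decide))⟩
  rw [← pow_succ, ← pow_mul, show (3 + 1) * 3 = 3 * 2 * 2 by norm_num, pow_mul, pow_mul, ← hx,
    ← map_pow, pow_two e, E_sq e he, map_one, one_pow]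

theorem comm_elt {x n : G} (h3 : x ^ 3 = 1) (e1 : Cj ψ x z1 z1) (e2 : Cj ψ x a1 a1)
    (e3 : Cj ψ x z2 b2) (e4 : Cj ψ x b2 (b2 * z2)) {u v : W} (hu : u ∈ A1) (hv : v ∈ A1)
    (n1 : Cj ψ n u z1) (n2 : Cj ψ n v a1) (n3 : Cj ψ n z2 z2) (n4 : Cj ψ n b2 b2) :
    ∃ e ∈ B2, n * x * n⁻¹ = io ψ e * x := by
  have hr := cj_rho e1 e2 e3 e4
  have hA : ∀ c ∈ A1, Cj ψ x c c := fun c hc => by
    have : ∀ c ∈ A1, c ∈ E ∧ rho c = c := by decide +kernel
    exact (hr c (this c hc).1).of_eq rfl (this c hc).2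
  have e5 : Cj ψ x (b2 * z2) z2 := (e4.mul e3).of_eq rfl (by decide)
  obtain ⟨e, he, hx⟩ := h.cent_E hch (g := n * (x * (n⁻¹ * x⁻¹)))
    (((e1.symm.trans n1.symm).trans (hA u hu)).trans n1)
    (((e2.symm.trans n2.symm).trans (hA v hv)).trans n2)
    (((e5.symm.trans (n4.mul n3).symm).trans e5).trans n3)
    (((e3.symm.trans n3.symm).trans e3).trans n4)
  have hx' : n * x * n⁻¹ = io ψ e * x := by rw [hx]; group
  refine ⟨e, rho_cube e he (h.io_inj ?_), hx'⟩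
  have c1 := hr e he
  have c2 := c1.trans (hr _ (rho_mem e he))
  have c3 : (io ψ e * x) ^ 3 = 1 := by rw [← hx', conj_pow, h3]; group
  rw [map_mul, map_mul, ← c1, ← c2, map_one, ← c3]
  have : x⁻¹ = x * x := by
    rw [inv_eq_iff_mul_eq_one, ← h3, pow_succ', pow_two]
  have h6 : (x * x)⁻¹ = x := by rw [← this, inv_inv]
  rw [h6, pow_succ, pow_two]
  have h7 : x⁻¹ * (x * x) = x := by group
  calc io ψ e * (x * io ψ e * x⁻¹) * (x * x * io ψ e * x)
      = io ψ e * x * io ψ e * (x⁻¹ * (x * x)) * io ψ e * x := by group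
    _ = _ := by rw [h7]; group

theorem exists_x2 : ∃ x ∈ LL ψ, Cj ψ x z2 b2 ∧
    (Cj ψ x b1 b1 ∨ Cj ψ x (b1 * z2) (b1 * z2)) := by
  obtain ⟨x, h3, e1, e2, e3, e4⟩ := h.exists_x hch
  obtain ⟨fb, fz, -⟩ := h.alpha
  have hr := cj_rho e1 e2 e3 e4
  have hBR : B2 ≤ R2 := fun w hw => ⟨hw.1, hw.2.1, trivial⟩
  have hBE : ∀ w ∈ B2, w ∈ E := by decide +kernel
  have hy : x * ψ Y1 = ψ Y1 * x := by
    obtain ⟨e, he, hx⟩ := h.comm_elt hch h3 e1 e2 e3 e4 (n := ψ Y1) (u := a1 * z1) (v := z1)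
      (by decide) (by decide) ((cj_y1a.mul cj_y1z).of_eq rfl (by decide)) cj_y1z
      (cj_y1 _ (by decide)) (cj_y1 _ (by decide))
    have hc : ψ Y1 * io ψ e * (ψ Y1)⁻¹ = io ψ e := cj_y1 e (hBR he)
    have ee : io ψ e * io ψ e = 1 := by rw [← map_mul, E_sq e (hBE e he), map_one]
    have s2 : ψ Y1 * (io ψ e * x) * (ψ Y1)⁻¹ = x := by
      calc ψ Y1 * (io ψ e * x) * (ψ Y1)⁻¹
          = (ψ Y1 * io ψ e * (ψ Y1)⁻¹) * (ψ Y1 * x * (ψ Y1)⁻¹) := by group
        _ = x := by rw [hc, hx, ← mul_assoc, ee, one_mul]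
    have s3 : ψ Y1 ^ 2 * x = x * ψ Y1 ^ 2 := by
      rw [← hx] at s2
      rw [← mul_inv_eq_iff_eq_mul]
      calc ψ Y1 ^ 2 * x * (ψ Y1 ^ 2)⁻¹ = ψ Y1 * (ψ Y1 * x * (ψ Y1)⁻¹) * (ψ Y1)⁻¹ := by
            rw [pow_two]; group
        _ = x := s2
    have s4 : ψ Y1 = (ψ Y1 ^ 2) ^ 2 := by
      rw [← pow_mul, show 2 * 2 = 3 + 1 by norm_num, pow_succ, Y1_three, one_mul]
    rw [s4]
    exact ((Commute.pow_left s3 2 : Commute _ x)).symm
  refine ⟨x, mem_LL.2 ⟨e1, e2, hy⟩, e3, ?_⟩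
  obtain ⟨e, he, hx⟩ := h.comm_elt hch h3 e1 e2 e3 e4 (n := io ψ b1) (u := z1) (v := a1 * z1)
    (by decide) (by decide) (cj_io (by decide)) (cj_io (by decide)) (cj_io (by decide))
    (cj_io (by decide))
  obtain ⟨v, hv, hve⟩ := rho_v e he
  have hfix : Cj ψ x (b1 * v) (b1 * v) := by
    have c1 : x * io ψ v * x⁻¹ = io ψ (rho v) := hr v (hBE v hv)
    have c2 : x * io ψ b1 * x⁻¹ = io ψ (b1 * e) := by
      have b2' : (io ψ b1)⁻¹ = io ψ b1 := by rw [← map_inv]; congr 1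
      have ce : io ψ b1 * io ψ e = io ψ e * io ψ b1 := by
        rw [← map_mul, ← map_mul]; congr 1
        have : ∀ w ∈ B2, b1 * w = w * b1 := by decide +kernel
        exact this e he
      have : x * io ψ b1 = io ψ b1 * (io ψ b1 * x * (io ψ b1)⁻¹) := by
        rw [b2', ← mul_assoc, ← mul_assoc, ← map_mul, show b1 * b1 = 1 by decide, map_one, one_mul]
      rw [this, hx, map_mul]; group
    have c3 : Cj ψ x (b1 * v) (b1 * e * rho v) := Cj.mul c2 c1
    refine c3.of_eq rfl ?_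
    have : ∀ v ∈ B2, b1 * (v * rho v) * rho v = b1 * v := by decide +kernel
    rw [← hve]; exact this v hv
  rcases B2_cases v hv with rfl | rfl | rfl | rfl
  · exact Or.inl (hfix.of_eq (mul_one _) (mul_one _))
  · exact Or.inr hfix
  · exact (h.disj fb (((hfix.mul e4).of_eq (by decide) (by decide)).F.trans fz)).elim
  · exact (h.disj fb (((hfix.mul e4).of_eq (by decide) (by decide)).F.symm.trans fz)).elim

theorem cent_LL {g : G} (hg : g ∈ LL ψ) (h2 : Cj ψ g z2 z2) : ∃ w ∈ R2, io ψ w = g := by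
  obtain ⟨e1, e2, e3⟩ := mem_LL.1 hg
  obtain ⟨w, hw, rfl⟩ := h.cent_Z0 hch (mem_cent_im.2 (fix_Z0 e1 e2 h2))
  refine ⟨w, ?_, rfl⟩
  have : ∀ w ∈ P1, emb w * Y1 = Y1 * emb w → w ∈ R2 := by decide +kernel
  refine this w hw (h.inj ?_)
  rw [map_mul, map_mul]; exact e3

theorem exists_dih : Nonempty (centralizer ({⟨io ψ z2, io_mem_LL (by decide)⟩} : Set (LL ψ)) ≃*
    DihedralGroup 4) := by
  let f0 : DihedralGroup 4 →* LL ψ :=
    ((io ψ).comp dih).codRestrict _ fun x => io_mem_LL (dih_mem x)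
  let f : DihedralGroup 4 →* centralizer ({⟨io ψ z2, io_mem_LL (by decide)⟩} : Set (LL ψ)) :=
    f0.codRestrict _ fun x => mem_centralizer_singleton_iff.2 (Subtype.ext (by
      change io ψ (dih x) * io ψ z2 = io ψ z2 * io ψ (dih x)
      rw [← map_mul, ← map_mul, f_Zc z2 (by decide) _ (mem_J.2 (dih_mem x).1)]))
  refine ⟨(MulEquiv.ofBijective f ⟨fun a b e => ?_, fun ⟨⟨g, hg⟩, hg'⟩ => ?_⟩).symm⟩
  · exact dih_injective (h.io_inj (congrArg Subtype.val (congrArg Subtype.val e)))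
  · obtain ⟨w, hw, rfl⟩ := h.cent_LL hch hg (cj_self_iff.2
      (congrArg Subtype.val (mem_centralizer_singleton_iff.1 hg')))
    obtain ⟨a, rfl⟩ := dih_surj w hw
    exact ⟨a, rfl⟩

omit hch in
theorem not_small {x : G} (hx : x ∈ LL ψ) (e3 : Cj ψ x z2 b2) (e : Cj ψ x (b1 * z2) (b1 * z2))
    (hc : Nat.card (LL ψ) ≤ 168) : False := by
  classical
  set t := io ψ b1 with ht
  have kt : ∀ π, kap ψ π * t = t * kap ψ π := fun π => kap_comm π (m := emb b1) (by decide) rfl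
  have kinj : Function.Injective (kap ψ) := h.inj.comp Wr.inr_injective
  set C : Subgroup (LL ψ) := (centralizer {t}).subgroupOf (LL ψ) with hC
  have h24 : 24 ≤ Nat.card C := by
    have : Nat.card S4 = 24 := by rw [Nat.card_eq_fintype_card]; decide
    rw [← this]
    exact Nat.card_le_card_of_injective
      (fun π => (⟨⟨kap ψ π, kap_mem π⟩, mem_centralizer_singleton_iff.2 (kt π)⟩ : C))
      fun a b e => kinj (congrArg Subtype.val (congrArg Subtype.val e))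
  have h7 : C.index ≤ 7 := by
    have := C.card_mul_index
    by_contra hlt
    have : 24 * 8 ≤ Nat.card C * C.index := Nat.mul_le_mul h24 (by omega)
    omega
  let φ : LL ψ ⧸ C → G := fun q => (q.out : G) * t * (q.out : G)⁻¹
  have hφ : ∀ l ∈ LL ψ, l * t * l⁻¹ ∈ Set.range φ := fun l hl => by
    obtain ⟨c, hc⟩ := QuotientGroup.mk_out_eq_mul C (⟨l, hl⟩ : LL ψ)
    refine ⟨((⟨l, hl⟩ : LL ψ) : LL ψ ⧸ C), ?_⟩
    simp only [φ, hc, Subgroup.coe_mul]
    have hc' : ((c : LL ψ) : G) * t = t * c := mem_centralizer_singleton_iff.1 c.2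
    calc l * (c : LL ψ) * t * (l * (c : LL ψ))⁻¹ = l * ((c : LL ψ) * t) * ((c : LL ψ) : G)⁻¹ * l⁻¹ := by
          group
      _ = _ := by rw [hc']; group
  have hcard : (Set.range φ).ncard ≤ 7 := by
    rw [← Set.image_univ]
    refine (Set.ncard_image_le).trans ?_
    rw [Set.ncard_univ]; exact h7
  set β : S4 := δ (b2 * z2).r with hβ
  have hxt : x * t * x⁻¹ = t * kap ψ β := by
    have : Cj ψ x b1 (b1 * (b2 * z2)) := (e.mul e3).of_eq (by decide) (by decide)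
    rw [this, map_mul, io_R2 (w := b2 * z2) (by decide)]
  have hconj : ∀ π, (kap ψ π * x) * t * (kap ψ π * x)⁻¹ = t * kap ψ (π * β * π⁻¹) := fun π => by
    calc (kap ψ π * x) * t * (kap ψ π * x)⁻¹ = kap ψ π * (x * t * x⁻¹) * (kap ψ π)⁻¹ := by group
      _ = _ := by rw [hxt, map_mul, map_mul, map_inv, ← mul_assoc, kt]; group
  let S : Finset S4 := Finset.univ.filter fun τ => τ = 1 ∨ ∃ π, π * β * π⁻¹ = τ
  have hS : S.card = 7 := by decide +kernel
  have hsub : (fun τ => t * kap ψ τ) '' (S : Set S4) ⊆ Set.range φ := by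
    rintro _ ⟨τ, hτ, rfl⟩
    rcases (Finset.mem_filter.1 hτ).2 with rfl | ⟨π, rfl⟩
    · simpa using hφ 1 (LL ψ).one_mem
    · have := hφ _ ((LL ψ).mul_mem (kap_mem π) hx)
      rwa [hconj] at this
  have heq := Set.eq_of_subset_of_ncard_le hsub (by
    rw [Set.ncard_image_of_injective _ (fun a b e => kinj (mul_left_cancel e)), Set.ncard_coe_finset,
      hS]; exact hcard)
  obtain ⟨τ, -, hτ⟩ : (x⁻¹ * (kap ψ Y * x)) * t * (x⁻¹ * (kap ψ Y * x))⁻¹ ∈
      (fun τ => t * kap ψ τ) '' (S : Set S4) :=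
    heq ▸ hφ _ ((LL ψ).mul_mem ((LL ψ).inv_mem hx) ((LL ψ).mul_mem (kap_mem _) hx))
  have c1 : Commute t ((x⁻¹ * (kap ψ Y * x)) * t * (x⁻¹ * (kap ψ Y * x))⁻¹) := by
    rw [← hτ]; exact (Commute.refl t).mul_right (kt τ).symm
  have c2 : Commute (x * t * x⁻¹) ((kap ψ Y * x) * t * (kap ψ Y * x)⁻¹) := by
    have := c1.conj x
    convert this using 1; group
  rw [hxt, hconj] at c2
  have c3 : Commute (kap ψ β) (kap ψ (Y * β * Y⁻¹)) := by
    have d1 : Commute t (t * kap ψ (Y * β * Y⁻¹)) := (Commute.refl t).mul_right (kt _).symm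
    have d2 : Commute (kap ψ β) (t * kap ψ (Y * β * Y⁻¹)) := by
      have := d1.inv_left.mul_left c2
      rwa [inv_mul_cancel_left] at this
    have := (show Commute (kap ψ β) t from kt β).inv_right.mul_right d2
    rwa [inv_mul_cancel_left] at this
  have c4 : β * (Y * β * Y⁻¹) = (Y * β * Y⁻¹) * β := kinj (by
    rw [map_mul (kap ψ) β, map_mul (kap ψ) _ β]; exact c3)
  exact absurd c4 (by decide)

omit hch in
theorem not_core (hc : centralizer ({⟨io ψ z2, io_mem_LL (by decide)⟩} : Set (LL ψ)) ⊔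
    oddCore (LL ψ) = ⊤) : False := by
  set t : LL ψ := ⟨io ψ z2, io_mem_LL (by decide)⟩ with ht
  set y : LL ψ := ⟨ψ Y2, kap_mem Y⟩ with hy
  obtain ⟨c, hc, o, ho, e⟩ := mem_sup_of_normal_right.1 (hc ▸ mem_top y)
  have hct : c * t = t * c := mem_centralizer_singleton_iff.1 hc
  have h1 : y * t * y⁻¹ * t⁻¹ ∈ oddCore (LL ψ) := by
    have hN : (oddCore (LL ψ)).Normal := inferInstance
    have h2 := hN.conj_mem _ ((oddCore (LL ψ)).mul_mem ho
      (hN.conj_mem _ ((oddCore (LL ψ)).inv_mem ho) t)) c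
    rw [← e]
    convert h2 using 1
    calc c * o * t * (c * o)⁻¹ * t⁻¹ = c * o * t * o⁻¹ * (t * c)⁻¹ := by group
      _ = _ := by rw [← hct]; group
  have h2 : ((y * t * y⁻¹ * t⁻¹ : LL ψ) : G) = io ψ (a2 * z2⁻¹) := by
    rw [map_mul, map_inv, ← (cj_y2z : Cj ψ _ _ _)]; rfl
  have h3 : orderOf (y * t * y⁻¹ * t⁻¹) = 2 := by
    rw [← Subgroup.orderOf_coe, h2, orderOf_injective _ h.io_inj]
    exact orderOf_eq_prime (by decide) (by decide)
  have h4 := (oddCore (LL ψ)).orderOf_dvd_natCard h1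
  rw [h3] at h4
  exact (Nat.not_even_iff_odd.2 CL.Rec.odd_card_oddCore) (even_iff_two_dvd.2 h4)

omit hch in
theorem rank_three (e : LL ψ ≃* alternatingGroup (Fin 6)) :
    ∃ X ≤ normalizer (im ψ A1 : Set G), IsElementaryAbelian 3 X ∧ 9 < Nat.card X := by
  let c1 : alternatingGroup (Fin 6) :=
    ⟨Equiv.swap 0 1 * Equiv.swap 0 2, Equiv.Perm.mem_alternatingGroup.2 (by decide)⟩
  let c2 : alternatingGroup (Fin 6) :=
    ⟨Equiv.swap 3 4 * Equiv.swap 3 5, Equiv.Perm.mem_alternatingGroup.2 (by decide)⟩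
  let j : alternatingGroup (Fin 6) →* G := (LL ψ).subtype.comp e.symm.toMonoidHom
  have jinj : Function.Injective j := (LL ψ).subtype_injective.comp e.symm.injective
  have jm : ∀ a, j a ∈ LL ψ := fun a => (e.symm a).2
  have jy : ∀ a, j a * ψ Y1 = ψ Y1 * j a := fun a => (mem_LL.1 (jm a)).2.2
  have h12 : j c1 * j c2 = j c2 * j c1 := by rw [← map_mul, ← map_mul]; congr 1; decide
  have hyL : ψ Y1 ∉ LL ψ := fun hy => h.tr_ne (Cj.one 1) (Cj.one 1) (fun _ =>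
    absurd (h.tr (mem_LL.1 hy).1 cj_y1z rfl) (by decide)) rfl
  refine ⟨closure {j c1, j c2, ψ Y1}, ?_, elemAb_closure ?_ ?_, ?_⟩
  · have hA : ∀ w ∈ A1, w = pw z1 w.l.i * pw a1 w.l.j := by decide +kernel
    have hp : ∀ {x : W}, x ∈ A1 → ∀ c, pw x c ∈ A1 := fun hx c => by
      cases c
      · exact A1.one_mem
      · exact hx
    have key : ∀ {g : G} {u v : W}, u ∈ A1 → v ∈ A1 → Cj ψ g z1 u → Cj ψ g a1 v →
        g ∈ normalizer (im ψ A1 : Set G) := fun hu hv e1 e2 => norm_of_dm fun w hw =>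
      ⟨_, A1.mul_mem (hp hu _) (hp hv _), ((e1.pw _).mul (e2.pw _)).of_eq (hA w hw).symm rfl⟩
    rw [closure_le]
    rintro _ (rfl | rfl | rfl)
    · exact key (by decide) (by decide) (mem_LL.1 (jm _)).1 (mem_LL.1 (jm _)).2.1
    · exact key (by decide) (by decide) (mem_LL.1 (jm _)).1 (mem_LL.1 (jm _)).2.1
    · exact key (by decide) (by decide) cj_y1z cj_y1a
  · rintro _ (rfl | rfl | rfl) _ (rfl | rfl | rfl)
    exacts [rfl, h12, jy _, h12.symm, rfl, jy _, (jy _).symm, (jy _).symm, rfl]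
  · rintro _ (rfl | rfl | rfl)
    · rw [← map_pow, show c1 ^ 3 = 1 by decide, map_one]
    · rw [← map_pow, show c2 ^ 3 = 1 by decide, map_one]
    · exact Y1_three
  · set X := closure ({j c1, j c2, ψ Y1} : Set G) with hX
    have m1 : j c1 ∈ X := subset_closure (by simp)
    have m2 : j c2 ∈ X := subset_closure (by simp)
    have m3 : ψ Y1 ∈ X := subset_closure (by simp)
    let f : Option (Fin 3 × Fin 3) → X := fun o => match o with
      | none => ⟨ψ Y1, m3⟩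
      | some p => ⟨j (c1 ^ p.1.val * c2 ^ p.2.val), by
          rw [map_mul, map_pow, map_pow]; exact X.mul_mem (X.pow_mem m1 _) (X.pow_mem m2 _)⟩
    have hinj : ∀ p q : Fin 3 × Fin 3, c1 ^ p.1.val * c2 ^ p.2.val = c1 ^ q.1.val * c2 ^ q.2.val →
        p = q := by decide +kernel
    have hf : Function.Injective f := by
      rintro (_ | p) (_ | q) e'
      · rfl
      · have e2 : ψ Y1 = j _ := congrArg Subtype.val e'
        exact absurd (e2 ▸ jm _) hyL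
      · have e2 : ψ Y1 = j _ := congrArg Subtype.val e'.symm
        exact absurd (e2 ▸ jm _) hyL
      · have e2 : ((f (some p) : X) : G) = (f (some q) : X) := congrArg Subtype.val e'
        rw [hinj p q (jinj e2)]
    have := Nat.card_le_card_of_injective f hf
    simp at this
    omega

omit hch in
theorem not_s (fb : F ψ b1 z1) (fz : F ψ (b1 * z2) zz) (fd : F ψ (b1 * b2) zz) : False := by
  have ft : ∀ w ∈ J, w * w = 1 → w ≠ 1 → ¬ zt w → F ψ w z1 := by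
    have : ∀ w ∈ J, w * w = 1 → w ≠ 1 → ¬ zt w → (w = z1 ∨ w = a1 ∨ w = a1 * z1) ∨
        (w = z2 ∨ w = a2 ∨ w = a2 * z2) ∨ ∃ v : W, v * w * v⁻¹ = b1 := by decide +kernel
    intro w h1 h2 h3 h4
    rcases this w h1 h2 h3 h4 with e | e | ⟨v, e⟩
    · exact F_A1 e
    · exact F_A2 e
    · exact (F.of_io v e).trans fb
  have fzz : ∀ w ∈ J, w * w = 1 → zt w → F ψ w zz := by
    have : ∀ w ∈ J, w * w = 1 → zt w → ∃ v : W, v * w * v⁻¹ = zz ∨ v * w * v⁻¹ = a1 * z2 ∨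
        v * w * v⁻¹ = a1 * a2 ∨ v * w * v⁻¹ = b1 * z2 ∨ v * w * v⁻¹ = b1 * a2 ∨
        v * w * v⁻¹ = b1 * b2 := by decide +kernel
    intro w h1 h2 h3
    obtain ⟨v, e | e | e | e | e | e⟩ := this w h1 h2 h3 <;> refine (F.of_io v e).trans ?_
    · exact F.refl _
    · exact F_A12 (Or.inr (Or.inl rfl)) (Or.inl rfl)
    · exact F_A12 (Or.inr (Or.inl rfl)) (Or.inr (Or.inl rfl))
    · exact fz
    · exact (F_mulA2 (by decide) (Or.inr (Or.inl rfl))).trans fz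
    · exact fd
  have zt_of : ∀ {w : W}, w * w = 1 → F ψ w zz → zt w := fun {w} h1 h2 => by
    by_contra h3
    have hJ : w ∈ J := by
      by_contra h4
      exact h3 fun h5 => absurd (mem_J.2 h5) h4
    exact h.disj (ft w hJ h1 (h.F_ne_one h2 (by decide)) h3) h2
  have zt_cj : ∀ {g : G} {w w' : W}, Cj ψ g w w' → w * w = 1 → F ψ w zz → zt w' :=
    fun e h1 h2 => zt_of (h.tr_sq e h1) (e.F.symm.trans h2)
  have fJ : ∀ w ∈ J, w * w = 1 → zt w → F ψ w zz := fzz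
  have fs : ∀ w : W, w * w = 1 → w.s = true → F ψ w sw := by
    have : ∀ w : W, w * w = 1 → w.s = true → ∃ v : W, v * w * v⁻¹ = sw := by decide +kernel
    exact fun w h1 h2 => let ⟨v, e⟩ := this w h1 h2; F.of_io v e
  obtain ⟨g0, u, hu, hϕ, -⟩ := h.transfer sgS (x := sw) (by decide) sgS_sw
  have huJ : u ∈ J := mem_J.2 (sgS_eq_one u hϕ)
  have hu2 := h.tr_sq hu (by decide)
  by_cases hz : zt u
  · have f0 : F ψ sw zz := hu.F.trans (fzz u huJ hu2 hz)
    obtain ⟨g, hg, hd⟩ := ext f0 h.sylT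
    obtain ⟨γ, -, e1⟩ := hd (a1 * a2) (by decide)
    obtain ⟨η, -, e2⟩ := hd (b1 * b2) (by decide)
    have e3 := ((e1.mul e2).mul e1).mul e2
    have j : ∀ {w w' : W}, Cj ψ g w w' → (w ∈ J ∧ w * w = 1 ∧ zt w) → zt w' :=
      fun e hw => zt_cj e hw.2.1 (fzz _ hw.1 hw.2.1 hw.2.2)
    have k : ∀ {w w' : W}, Cj ψ g w w' → (w * w = 1 ∧ w.s = true) → zt w' :=
      fun e hw => zt_cj e hw.1 ((fs _ hw.1 hw.2).trans f0)
    exact f_s2 γ (h.tr_sq e1 (by decide)) (j e1 (by decide)) (k (hg.mul e1) (by decide)) η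
      (h.tr_sq e2 (by decide)) (j e2 (by decide)) (k (hg.mul e2) (by decide)) (j e3 (by decide))
      (k (hg.mul e3) (by decide)) (j (e1.mul e3) (by decide)) (j (e2.mul e3) (by decide))
      (k (hg.mul (e1.mul e3)) (by decide)) (k (hg.mul (e2.mul e3)) (by decide))
      (h.tr_sq e3 (by decide))
  · have f0 : F ψ sw z1 := hu.F.trans (ft u huJ hu2 (h.F_ne_one hu.F.symm (by decide)) hz)
    obtain ⟨g, hg, hd⟩ := ext f0 h.sylJ
    obtain ⟨γ, hγ, e1⟩ := hd (a1 * a2) (by decide)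
    obtain ⟨η, hη, e2⟩ := hd (b1 * b2) (by decide)
    obtain ⟨ζ, -, e3⟩ := hd zz (by decide)
    have hc : γ * η = ζ * (η * γ) := h.tr (e1.mul e2) (e3.mul (e2.mul e1)) (by decide)
    have hZ := f_comm γ hγ η hη
    rw [hc, mul_inv_cancel_right] at hZ
    have hζ := zt_cj e3 (by decide) (F.refl _)
    obtain rfl : ζ = zz := by
      rcases f_Z ζ hZ with rfl | rfl | rfl | rfl
      · exact absurd hζ (by decide)
      · exact absurd hζ (by decide)
      · exact absurd hζ (by decide)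
      · rfl
    have h1 := f_s1 γ hγ (zt_cj e1 (by decide) (fzz _ (by decide) (by decide) (by decide)))
      (zt_cj (e1.mul e3) (by decide) (fzz _ (by decide) (by decide) (by decide)))
      (h.tr_sq e1 (by decide))
    have e4 := e1.mul hg
    exact h.disj (e4.F.symm.trans ((fs _ (by decide) (by decide)).trans f0))
      (fzz _ (J.mul_mem hγ (by decide)) (h.tr_sq e4 (by decide)) h1)

theorem main : ∃ X ≤ normalizer (im ψ A1 : Set G), IsElementaryAbelian 3 X ∧ 9 < Nat.card X := by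
  obtain ⟨x, hx, e3, e | e⟩ := h.exists_x2 hch
  · obtain ⟨fb, fz, -⟩ := h.alpha
    exact (h.not_s fb fz ((e.mul e3).F.symm.trans fz)).elim
  have ho : orderOf (⟨io ψ z2, io_mem_LL (by decide)⟩ : LL ψ) = 2 := by
    rw [← Subgroup.orderOf_coe, orderOf_injective _ h.io_inj]
    exact orderOf_eq_prime (by decide) (by decide)
  rcases Cfsg.Agent.S3035.result _ ho (h.exists_dih hch) with hc | ⟨⟨f⟩⟩ | ⟨⟨f⟩⟩ | ⟨⟨f⟩⟩ | ⟨⟨f⟩⟩
  · exact (h.not_core hc).elim
  · refine (h.not_small hx e3 e ?_).elim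
    rw [Nat.card_congr f.toEquiv, Nat.card_eq_fintype_card, Fintype.card_perm]; decide
  · refine (h.not_small hx e3 e ?_).elim
    rw [Nat.card_congr f.toEquiv, Nat.card_eq_fintype_card, Fintype.card_perm]; decide
  · refine (h.not_small hx e3 e ?_).elim
    rw [Nat.card_congr f.toEquiv, CL.Rec.card_sl32]
  · exact h.rank_three f

end Cfg

end CL.W4
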